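import Mathlib

/-!
Constructibility of the rank of a family of endomorphisms on the fibres of a flat module.
-/

universe u v w

open TensorProduct

set_option autoImplicit false

namespace Groth.Agent.FibRank96

theorem exists_minor {κ : Type u} [Field κ] {ι : Type v} [Fintype ι] {r : ℕ} (v : Fin r → ι → κ)
    (hv : LinearIndependent κ v) : ∃ g : Fin r → ι, (Matrix.of fun a b => v a (g b)).det ≠ 0 := by
  classical
  let M : Matrix (Fin r) ι κ := Matrix.of v
  have hrank : M.rank = r := by
    rw [LinearIndependent.rank_matrix (show LinearIndependent κ M.row from hv), Fintype.card_fin]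
  have hcols : Submodule.span κ (Set.range M.col) = ⊤ := by
    apply Submodule.eq_top_of_finrank_eq
    rw [← Matrix.rank_eq_finrank_span_cols, hrank, Module.finrank_fin_fun]
  obtain ⟨b, hbsub, hbspan, hbli⟩ := exists_linearIndependent κ (Set.range M.col)
  rw [hcols] at hbspan
  let B : Module.Basis b κ (Fin r → κ) := Module.Basis.mk hbli (by simp [Subtype.range_coe, hbspan])
  have : Fintype b := FiniteDimensional.fintypeBasisIndex B
  have hcard : Fintype.card b = r := by
    rw [← Module.finrank_eq_card_basis B, Module.finrank_fin_fun]
  let e : Fin r ≃ b := (Fintype.equivFinOfCardEq hcard).symm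
  choose g hg using fun a : Fin r => hbsub (e a).2
  refine ⟨g, fun hdet => ?_⟩
  have hli : LinearIndependent κ (fun a => M.col (g a)) := by
    simp only [hg]
    exact hbli.comp e e.injective
  have : IsUnit (Matrix.of fun a b => v a (g b)) :=
    Matrix.linearIndependent_cols_iff_isUnit.mp hli
  rw [Matrix.isUnit_iff_isUnit_det, hdet, isUnit_zero_iff] at this
  exact zero_ne_one this

theorem linearIndependent_of_minor {κ : Type u} [Field κ] {ι : Type v} {r : ℕ} (v : Fin r → ι → κ)
    (g : Fin r → ι) (h : (Matrix.of fun a b => v a (g b)).det ≠ 0) : LinearIndependent κ v := by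
  refine LinearIndependent.of_comp (LinearMap.funLeft κ κ g) ?_
  exact Matrix.linearIndependent_rows_iff_isUnit.mpr
    ((Matrix.isUnit_iff_isUnit_det _).mpr (isUnit_iff_ne_zero.mpr h))

variable {A : Type u} [CommRing A]

/-- The reduction of a family of vectors at a prime. -/
noncomputable def red {ι : Type v} {m : ℕ} (v : Fin m → ι → A) (p : PrimeSpectrum A) :
    Fin m → ι → p.asIdeal.ResidueField :=
  fun l i => algebraMap A p.asIdeal.ResidueField (v l i)

theorem isOpen_le_rank {ι : Type v} [Fintype ι] {m : ℕ} (v : Fin m → ι → A) (r : ℕ) :
    IsOpen {p : PrimeSpectrum A |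
      r ≤ Module.finrank p.asIdeal.ResidueField
        (Submodule.span p.asIdeal.ResidueField (Set.range (red v p)))} := by
  classical
  have key : {p : PrimeSpectrum A |
      r ≤ Module.finrank p.asIdeal.ResidueField
        (Submodule.span p.asIdeal.ResidueField (Set.range (red v p)))} =
      ⋃ (f : Fin r → Fin m) (g : Fin r → ι),
        (PrimeSpectrum.basicOpen (Matrix.of fun a b => v (f a) (g b)).det : Set (PrimeSpectrum A)) := by
    ext p
    simp only [Set.mem_setOf_eq, Set.mem_iUnion, SetLike.mem_coe, PrimeSpectrum.mem_basicOpen]
    have hdet : ∀ (f : Fin r → Fin m) (g : Fin r → ι),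
        (Matrix.of fun a b => red v p (f a) (g b)).det ≠ 0 ↔
          (Matrix.of fun a b => v (f a) (g b)).det ∉ p.asIdeal := by
      intro f g
      rw [← Ideal.algebraMap_residueField_eq_zero, RingHom.map_det]
      rfl
    constructor
    · intro h
      obtain ⟨b, hbsub, hbspan, hbli⟩ := exists_linearIndependent p.asIdeal.ResidueField (Set.range (red v p))
      rw [← hbspan] at h
      have : Fintype b := (Set.Finite.subset (Set.finite_range _) hbsub).fintype
      rw [finrank_span_set_eq_card hbli, Set.toFinset_card] at h
      obtain ⟨e⟩ : Nonempty (Fin r ↪ b) :=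
        Function.Embedding.nonempty_of_card_le (by rw [Fintype.card_fin]; exact h)
      choose f hf using fun a : Fin r => hbsub (e a).2
      have hli : LinearIndependent p.asIdeal.ResidueField (fun a => red v p (f a)) := by
        simp only [hf]
        exact hbli.comp e e.injective
      obtain ⟨g, hg⟩ := exists_minor _ hli
      exact ⟨f, g, (hdet f g).mp hg⟩
    · rintro ⟨f, g, hfg⟩
      have hli := linearIndependent_of_minor (fun a => red v p (f a)) g ((hdet f g).mpr hfg)
      have h1 := finrank_span_eq_card hli
      rw [Fintype.card_fin] at h1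
      conv_lhs => rw [← h1]
      exact Submodule.finrank_mono (Submodule.span_mono (by rintro _ ⟨a, rfl⟩; exact ⟨f a, rfl⟩))
  rw [key]
  exact isOpen_iUnion fun _ => isOpen_iUnion fun _ => PrimeSpectrum.isOpen_basicOpen

theorem isConstructible_fibre_rank [IsNoetherianRing A] (S : Type v) [CommRing S] [Algebra A S]
    (Q : Type w) [AddCommGroup Q] [Module A Q] [Module S Q] [IsScalarTower A S Q]
    [Module.Finite A Q] [Module.Flat A Q] (n : ℕ) :
    Topology.IsConstructible {p : PrimeSpectrum A |
      Module.finrank p.asIdeal.ResidueField
        (Submodule.span p.asIdeal.ResidueField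
          (Set.range fun s : S =>
            LinearMap.baseChange p.asIdeal.ResidueField (DistribSMul.toLinearMap A Q s))) = n} := by
  classical
  have : Module.FinitePresentation A Q := Module.finitePresentation_of_finite A Q
  have : Module.Projective A Q := Module.Flat.projective_of_finitePresentation
  obtain ⟨N, π, hπ⟩ := Module.Finite.exists_fin' A Q
  obtain ⟨sec, hsec⟩ := π.exists_rightInverse_of_surjective (LinearMap.range_eq_top.mpr hπ)
  let ρ : S →ₗ[A] Module.End A Q := (Algebra.lsmul A A Q : S →ₐ[A] Module.End A Q).toLinearMap
  obtain ⟨m, φ, hφ⟩ := Submodule.fg_iff_exists_fin_generating_family.mp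
    (IsNoetherian.noetherian (LinearMap.range ρ))
  let v : Fin m → Fin N × Fin N → A := fun l ab => sec (φ l (π (Pi.single ab.2 1))) ab.1
  have key : ∀ p : PrimeSpectrum A,
      Module.finrank p.asIdeal.ResidueField
        (Submodule.span p.asIdeal.ResidueField
          (Set.range fun s : S =>
            LinearMap.baseChange p.asIdeal.ResidueField (DistribSMul.toLinearMap A Q s))) =
      Module.finrank p.asIdeal.ResidueField
        (Submodule.span p.asIdeal.ResidueField (Set.range (red v p))) := by
    intro p
    set κ := p.asIdeal.ResidueField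
    have hspan : Submodule.span κ (Set.range fun s : S =>
        LinearMap.baseChange κ (DistribSMul.toLinearMap A Q s)) =
        Submodule.span κ (Set.range fun l => LinearMap.baseChange κ (φ l)) := by
      apply le_antisymm <;> rw [Submodule.span_le]
      · rintro _ ⟨s, rfl⟩
        have hs : DistribSMul.toLinearMap A Q s ∈ Submodule.span A (Set.range φ) :=
          hφ ▸ ⟨s, rfl⟩
        refine Submodule.span_le_restrictScalars A κ _ ?_
        have := Submodule.mem_map_of_mem (f := LinearMap.baseChangeHom A κ Q Q) hs
        rwa [Submodule.map_span, ← Set.range_comp] at this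
      · rintro _ ⟨l, rfl⟩
        obtain ⟨s, hs⟩ : φ l ∈ LinearMap.range ρ := hφ ▸ Submodule.subset_span ⟨l, rfl⟩
        exact Submodule.subset_span ⟨s, by show _ = LinearMap.baseChange κ (φ l); rw [← hs]; rfl⟩
    -- coordinates of an endomorphism of the fibre
    let crd : (κ ⊗[A] Q →ₗ[κ] κ ⊗[A] Q) →ₗ[κ] (Fin N × Fin N → κ) :=
      { toFun := fun F ab => (TensorProduct.piScalarRight A κ κ (Fin N))
          (LinearMap.baseChange κ sec (F (LinearMap.baseChange κ π (1 ⊗ₜ Pi.single ab.2 1)))) ab.1
        map_add' := fun F G => funext fun ab => by simp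
        map_smul' := fun c F => funext fun ab => by simp }
    have hinj : Function.Injective crd := by
      rw [injective_iff_map_eq_zero]
      intro F hF
      have hsecinj : Function.Injective (LinearMap.baseChange κ sec) :=
        Function.LeftInverse.injective (g := LinearMap.baseChange κ π) fun z => by
          rw [← LinearMap.comp_apply, ← LinearMap.baseChange_comp, hsec, LinearMap.baseChange_id,
            LinearMap.id_apply]
      have hz : F ∘ₗ LinearMap.baseChange κ π = 0 := by
        refine TensorProduct.AlgebraTensorModule.ext fun c x => ?_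
        have hx : (c ⊗ₜ[A] x : κ ⊗[A] (Fin N → A)) = c • (1 ⊗ₜ x) := by
          rw [smul_tmul', smul_eq_mul, mul_one]
        rw [LinearMap.zero_apply, hx, map_smul]
        have hx0 : ((F ∘ₗ LinearMap.baseChange κ π).restrictScalars A ∘ₗ
            (TensorProduct.mk A κ (Fin N → A) 1)) x = 0 := by
          refine LinearMap.congr_fun (g := 0) ?_ x
          refine LinearMap.pi_ext fun b a => ?_
          rw [show (Pi.single b a : Fin N → A) = a • Pi.single b 1 by
            rw [← Pi.single_smul', smul_eq_mul, mul_one], map_smul, map_smul, LinearMap.zero_apply]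
          refine (congrArg (a • ·) ?_).trans (smul_zero a)
          apply hsecinj
          rw [map_zero]
          apply (TensorProduct.piScalarRight A κ κ (Fin N)).injective
          rw [map_zero]
          funext i
          exact congrFun hF (i, b)
        exact (congrArg (c • ·) hx0).trans (smul_zero c)
      refine LinearMap.ext fun z => ?_
      obtain ⟨y, rfl⟩ := LinearMap.baseChange_surjective (g := π) κ hπ z
      exact LinearMap.congr_fun hz y
    have himg : ∀ l, crd (LinearMap.baseChange κ (φ l)) = red v p l := by
      intro l
      funext ab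
      simp [crd, red, v, Algebra.smul_def, κ]
    rw [hspan]
    refine ((Submodule.equivMapOfInjective crd hinj _).finrank_eq).trans ?_
    rw [Submodule.map_span, ← Set.range_comp]
    exact congrArg (fun f => Module.finrank κ (Submodule.span κ (Set.range f))) (funext himg)
  have hcons : ∀ r, Topology.IsConstructible {p : PrimeSpectrum A |
      r ≤ Module.finrank p.asIdeal.ResidueField
        (Submodule.span p.asIdeal.ResidueField (Set.range (red v p)))} := fun r => by
    exact BooleanSubalgebra.subset_closure
      ⟨isOpen_le_rank v r, fun U _ _ => TopologicalSpace.NoetherianSpace.isCompact _⟩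
  have : {p : PrimeSpectrum A |
      Module.finrank p.asIdeal.ResidueField
        (Submodule.span p.asIdeal.ResidueField
          (Set.range fun s : S =>
            LinearMap.baseChange p.asIdeal.ResidueField (DistribSMul.toLinearMap A Q s))) = n} =
      {p : PrimeSpectrum A | n ≤ Module.finrank p.asIdeal.ResidueField
        (Submodule.span p.asIdeal.ResidueField (Set.range (red v p)))} ∩
      {p : PrimeSpectrum A | n + 1 ≤ Module.finrank p.asIdeal.ResidueField
        (Submodule.span p.asIdeal.ResidueField (Set.range (red v p)))}ᶜ := by
    ext p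
    simp only [Set.mem_inter_iff, Set.mem_compl_iff, Set.mem_setOf_eq, key]
    omega
  rw [this]
  exact (hcons n).inter (hcons (n + 1)).compl

end Groth.Agent.FibRank96
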